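import Cfsg.Agent.Lib.Fusion.Criterion
import Cfsg.Agent.Lib.Fusion.Normal

/-
A saturated system over an internal direct product of two strongly closed subgroups: the full
subsystem over one factor and the subsystem of maps fixing the other factor elementwise.
Main results: `DP`, `DP.extend`, `DP.exists_split`, `isSaturated_full`, `isSaturated_fix`,
`isNormalIn_fix`, `isNormalIn_fix_full`, `isWeaklyNormalIn_full`.
-/

set_option autoImplicit false

open scoped Classical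

namespace Cfsg.Agent.FusionDirect

open Cfsg Cfsg.FusionSystem Cfsg.Agent.Fusion

variable {Ω : Type*} [Group Ω] {S : Subgroup Ω} {F : FusionSystem S} {S₁ S₂ : Subgroup Ω}
  {p : ℕ}

/-- An internal direct product of two strongly closed subgroups. -/
structure DP (F : FusionSystem S) (S₁ S₂ : Subgroup Ω) : Prop where
  prod : IsInternalDirectProduct S₁ S₂ S
  c1 : F.StronglyClosed S₁
  c2 : F.StronglyClosed S₂

namespace DP

theorem symm (D : DP F S₁ S₂) : DP F S₂ S₁ := by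
  obtain ⟨⟨h1, h2, hc, hi, hs⟩, c1, c2⟩ := D
  exact ⟨⟨h2, h1, fun a ha b hb => (hc b hb a ha).symm, inf_comm S₁ S₂ ▸ hi,
    sup_comm S₁ S₂ ▸ hs⟩, c2, c1⟩

theorem le1 (D : DP F S₁ S₂) : S₁ ≤ S := D.prod.1

theorem le2 (D : DP F S₁ S₂) : S₂ ≤ S := D.prod.2.1

theorem conj2 (D : DP F S₁ S₂) {a b : Ω} (ha : a ∈ S₁) (hb : b ∈ S₂) : b * a * b⁻¹ = a := by
  rw [← D.prod.2.2.1 a ha b hb, mul_inv_cancel_right]

theorem exists_mul (D : DP F S₁ S₂) {s : Ω} (hs : s ∈ S) :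
    ∃ a ∈ S₁, ∃ b ∈ S₂, s = a * b := by
  rw [← D.prod.2.2.2.2, ← Subgroup.closure_eq S₁, ← Subgroup.closure_eq S₂,
    ← Subgroup.closure_union] at hs
  induction hs using Subgroup.closure_induction with
  | mem x hx =>
    rcases hx with hx | hx
    · exact ⟨x, hx, 1, one_mem _, (mul_one x).symm⟩
    · exact ⟨1, one_mem _, x, hx, (one_mul x).symm⟩
  | one => exact ⟨1, one_mem _, 1, one_mem _, (one_mul 1).symm⟩
  | mul x y _ _ hx hy =>
    obtain ⟨a, ha, b, hb, rfl⟩ := hx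
    obtain ⟨c, hc, d, hd, rfl⟩ := hy
    refine ⟨a * c, mul_mem ha hc, b * d, mul_mem hb hd, ?_⟩
    rw [mul_assoc a b, ← mul_assoc b c, ← D.prod.2.2.1 c hc b hb]
    group
  | inv x _ hx =>
    obtain ⟨a, ha, b, hb, rfl⟩ := hx
    refine ⟨a⁻¹, inv_mem ha, b⁻¹, inv_mem hb, ?_⟩
    rw [D.prod.2.2.1 _ (inv_mem ha) _ (inv_mem hb)]
    group

theorem le_centralizerIn (D : DP F S₁ S₂) {P : Subgroup Ω} (hP : P ≤ S₁) :
    S₂ ≤ centralizerIn S P :=
  fun b hb => mem_centralizerIn.2 ⟨D.le2 hb, fun x hx => (D.prod.2.2.1 x (hP hx) b hb).symm⟩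

theorem le_centralizerIn' (D : DP F S₁ S₂) {P : Subgroup Ω} (hP : P ≤ S₁) :
    P ≤ centralizerIn S S₂ :=
  fun x hx => mem_centralizerIn.2 ⟨D.le1 (hP hx), fun b hb => D.prod.2.2.1 x (hP hx) b hb⟩

theorem normalizerIn_factor (D : DP F S₁ S₂) : normalizerIn S S₁ = S :=
  le_antisymm inf_le_left (le_inf le_rfl (normalizes_of_stronglyClosed D.c1))

theorem fullyNormalized_factor [Finite S] (D : DP F S₁ S₂) : F.IsFullyNormalized S₁ :=
  ⟨D.le1, fun Q _ => by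
    rw [D.normalizerIn_factor]; exact Subgroup.card_le_of_le inf_le_left⟩

theorem autS_eq (D : DP F S₁ S₂) {Q : Subgroup Ω} (hQ : Q ≤ S₁) :
    autInducedBy S Q = autInducedBy S₁ Q := by
  refine le_antisymm (fun α hα => ?_) (autInducedBy_le_of_le D.le1)
  obtain ⟨g, hg, h⟩ := mem_autInducedBy_iff.1 hα
  obtain ⟨a, ha, b, hb, rfl⟩ := D.exists_mul hg
  refine mem_autInducedBy_iff.2 ⟨a, ha, fun x => ?_⟩
  rw [h x, show a * b * (x : Ω) * (a * b)⁻¹ = a * (b * x * b⁻¹) * a⁻¹ by group,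
    D.conj2 (hQ x.2) hb]

theorem map_mem (D : DP F S₁ S₂) {P : Subgroup Ω} {f : Ω → Ω} (hf : IsMap F P f) {x : Ω}
    (hx : x ∈ P) (h1 : x ∈ S₁) : f x ∈ S₁ :=
  (stronglyClosed_iff.1 D.c1).2 P f hf x hx h1

theorem img_factor [Finite S] (D : DP F S₁ S₂) {M : Subgroup Ω} {f : Ω → Ω} (hf : IsMap F M f)
    (hM : S₁ ≤ M) : img f S₁ = S₁ :=
  eq_of_le_of_card D.le1 (hf.img_le hM fun _ hx => D.map_mem hf (hM hx) hx)
    (hf.card_img hM).ge

/-- An automorphism of one factor extends to the whole group. -/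
theorem extend_factor [Finite S] [Fact p.Prime] (D : DP F S₁ S₂) (hS : IsPGroup p S)
    (hF : F.IsSaturated p) {f : Ω → Ω} (hf : IsIso F S₁ S₁ f) :
    ∃ d, IsIso F S S d ∧ ∀ x ∈ S₁, d x = f x := by
  obtain ⟨f', hf', e⟩ := (isReceptive_iff.1
    (receptive_of_fullyNormalized hS hF D.fullyNormalized_factor)).2 _ f hf
  have hle : S ≤ Nx S S₁ f := fun s hs => by
    obtain ⟨a, ha, b, hb, rfl⟩ := D.exists_mul hs
    exact mul_mem (le_Nx hf.1 ha) (centralizerIn_le_Nx S S₁ f (D.le_centralizerIn le_rfl hb))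
  exact ⟨f', ⟨hf'.mono hle, eq_of_le_of_card le_rfl (hf'.mono hle).img_le_S
    ((hf'.mono hle).card_img le_rfl).ge⟩, e⟩

/-- Every map between subgroups of the first factor extends to the second factor. -/
theorem extend [Finite S] [Fact p.Prime] (D : DP F S₁ S₂) (hS : IsPGroup p S)
    (hF : F.IsSaturated p) {P : Subgroup Ω} (hP : P ≤ S₁) {f : Ω → Ω} (hf : IsMap F P f) :
    ∃ g, IsMap F (P ⊔ S₂) g ∧ ∀ x ∈ P, g x = f x := by
  have hP' : img f P ≤ S₁ := hf.img_le le_rfl fun x hx => D.map_mem hf hx (hP hx)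
  obtain ⟨R, hR, hRn⟩ := exists_fullyNormalized F hf.img_le_S
  obtain ⟨k, hk⟩ := isConj_iff.1 hR
  have key : ∀ (Q : Subgroup Ω) (u : Ω → Ω), Q ≤ S₁ → IsIso F Q R u →
      ∃ v, IsIso F (Q ⊔ S₂) (R ⊔ S₂) v ∧ ∀ x ∈ Q, v x = u x := by
    intro Q u hQ hu
    obtain ⟨u', hu', e⟩ := (isReceptive_iff.1 (receptive_of_fullyNormalized hS hF hRn)).2 Q u hu
    have hle : Q ⊔ S₂ ≤ Nx S Q u :=
      sup_le (le_Nx hu.1) ((D.le_centralizerIn hQ).trans (centralizerIn_le_Nx S Q u))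
    have hv := hu'.mono hle
    refine ⟨u', ⟨hv, le_antisymm (hv.img_le le_rfl fun x hx => hv.forall_mem_sup le_sup_left
      le_sup_right (fun y hy => ?_) (fun y hy => ?_) hx) (sup_le ?_ ?_)⟩, e⟩
    · rw [e y hy]
      exact le_sup_left (a := R) (hu.mem hy)
    · exact le_sup_right (a := R) (D.symm.map_mem hv (le_sup_right (a := Q) hy) hy)
    · intro y hy
      obtain ⟨x, hx, rfl⟩ := hu.exists_eq hy
      rw [← e x hx]
      exact hv.mem_img (le_sup_left (b := S₂) hx)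
    · intro y hy
      rw [← D.symm.img_factor hv le_sup_right] at hy
      obtain ⟨x, hx, rfl⟩ := (hv.mem_img_iff le_sup_right).1 hy
      exact hv.mem_img (le_sup_right (a := Q) hx)
  obtain ⟨v, hv, hve⟩ := key P (fun x => k (f x)) hP (hf.isIso.trans hk)
  obtain ⟨w, hw, hwe⟩ := key (img f P) k hP' hk
  obtain ⟨winv, hwinv, hwl, -⟩ := hw.symm
  refine ⟨fun x => winv (v x), hv.1.comp hwinv.1 fun x hx => hv.mem hx, fun x hx => ?_⟩
  show winv (v x) = f x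
  rw [hve x hx, ← hwe _ (hf.mem_img hx), hwl _ (le_sup_left (b := S₂) (hf.mem_img hx))]

/-- The maps of the subsystem fixing the second factor, as functions. -/
def Fixes (F : FusionSystem S) (S₂ P : Subgroup Ω) (f : Ω → Ω) : Prop :=
  ∃ g, IsMap F (P ⊔ S₂) g ∧ (∀ x ∈ P, g x = f x) ∧ ∀ y ∈ S₂, g y = y

/-- Every map is a map fixing the second factor followed by an automorphism of `S`. -/
theorem exists_split [Finite S] [Fact p.Prime] (D : DP F S₁ S₂) (hS : IsPGroup p S)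
    (hF : F.IsSaturated p) {P : Subgroup Ω} (hP : P ≤ S₁) {f : Ω → Ω} (hf : IsMap F P f) :
    ∃ d, IsIso F S S d ∧ Fixes F S₂ P fun x => d (f x) := by
  obtain ⟨g, hg, hge⟩ := D.extend hS hF hP hf
  have hgS : IsIso F S₂ S₂ g := ⟨hg.mono le_sup_right, D.symm.img_factor hg le_sup_right⟩
  obtain ⟨gi, hgi, hgl, -⟩ := hgS.symm
  obtain ⟨d, hd, hde⟩ := D.symm.extend_factor hS hF hgi
  refine ⟨d, hd, fun x => d (g x), hg.comp hd.1 fun x hx => hg.mem hx, fun x hx => ?_,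
    fun y hy => ?_⟩
  · show d (g x) = d (f x)
    rw [hge x hx]
  · show d (g y) = y
    rw [hde _ (hgS.mem hy), hgl y hy]

theorem normalizerIn_sup (D : DP F S₁ S₂) {Q : Subgroup Ω} [Finite Q] (hQ : Q ≤ S₁)
    [Finite S] : normalizerIn S (Q ⊔ S₂) = normalizerIn S Q := by
  have := finite_of_le (sup_le (hQ.trans D.le1) D.le2)
  have hdec : ∀ z ∈ Q ⊔ S₂, z ∈ S₁ → z ∈ Q := by
    intro z hz hz1
    have hle : Q ⊔ S₂ ≤
        { carrier := {z | ∃ a ∈ Q, ∃ b ∈ S₂, z = a * b}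
          one_mem' := ⟨1, one_mem _, 1, one_mem _, (one_mul 1).symm⟩
          mul_mem' := by
            rintro _ _ ⟨a, ha, b, hb, rfl⟩ ⟨c, hc, d, hd, rfl⟩
            refine ⟨a * c, mul_mem ha hc, b * d, mul_mem hb hd, ?_⟩
            rw [mul_assoc a b, ← mul_assoc b c, ← D.prod.2.2.1 c (hQ hc) b hb]
            group
          inv_mem' := by
            rintro _ ⟨a, ha, b, hb, rfl⟩
            refine ⟨a⁻¹, inv_mem ha, b⁻¹, inv_mem hb, ?_⟩
            rw [D.prod.2.2.1 _ (inv_mem (hQ ha)) _ (inv_mem hb)]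
            group : Subgroup Ω } :=
      sup_le (fun x hx => ⟨x, hx, 1, one_mem _, (mul_one x).symm⟩)
        fun x hx => ⟨1, one_mem _, x, hx, (one_mul x).symm⟩
    obtain ⟨a, ha, b, hb, rfl⟩ := hle hz
    have hb1 : b ∈ S₁ := (Subgroup.mul_mem_cancel_left _ (hQ ha)).1 hz1
    have : b ∈ S₁ ⊓ S₂ := ⟨hb1, hb⟩
    rw [D.prod.2.2.2.1, Subgroup.mem_bot] at this
    rw [this, mul_one]
    exact ha
  apply le_antisymm
  · intro s hs
    exact mem_normalizerIn_of_conj hs.1 fun x hx =>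
      hdec _ (normalizerIn_conj hs (le_sup_left (b := S₂) hx))
        (conj_mem_of_stronglyClosed D.c1 hs.1 (hQ hx))
  · intro s hs
    refine mem_normalizerIn_of_conj hs.1 fun x hx => ?_
    exact (IsMap.conj (F := F) (sup_le (hQ.trans D.le1) D.le2) hs.1).forall_mem_sup le_sup_left
      le_sup_right (fun y hy => le_sup_left (b := S₂) (normalizerIn_conj hs hy))
      (fun y hy => le_sup_right (a := Q) (conj_mem_of_stronglyClosed D.c2 hs.1 hy)) hx

theorem fullyNormalized_sup [Finite S] (D : DP F S₁ S₂) {Q : Subgroup Ω}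
    (hQ : Q ≤ S₁) (hn : F.IsFullyNormalized Q) : F.IsFullyNormalized (Q ⊔ S₂) := by
  refine ⟨sup_le hn.1 D.le2, fun X hX => ?_⟩
  obtain ⟨g, hg⟩ := isConj_iff.1 hX
  have hQ' : img g Q ≤ S₁ :=
    hg.1.img_le le_sup_left fun x hx => D.map_mem hg.1 (le_sup_left (b := S₂) hx) (hQ hx)
  have h2 := D.symm.img_factor hg.1 (le_sup_right (a := Q))
  have hX' : X = img g Q ⊔ S₂ := by
    refine le_antisymm ?_ (sup_le ?_ ?_)
    · rw [← hg.2]
      exact hg.1.img_le le_rfl fun x hx => hg.1.forall_mem_sup le_sup_left le_sup_right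
        (fun y hy => le_sup_left (b := S₂) (hg.1.mem_img hy))
        (fun y hy => le_sup_right (a := img g Q)
          (D.symm.map_mem hg.1 (le_sup_right (a := Q) hy) hy)) hx
    · exact hg.1.img_le le_sup_left fun x hx => hg.mem (le_sup_left (b := S₂) hx)
    · intro y hy
      rw [← h2] at hy
      obtain ⟨x, hx, rfl⟩ := (hg.1.mem_img_iff le_sup_right).1 hy
      exact hg.mem (le_sup_right (a := Q) hx)
  have := finite_of_le hn.1
  have := finite_of_le (hQ'.trans D.le1)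
  rw [hX', D.normalizerIn_sup hQ', D.normalizerIn_sup hQ]
  exact hn.2 _ (isConj_iff.2 ⟨g, hg.mono le_sup_left⟩)

end DP

theorem fullyNormalized_auto [Finite S] {Q : Subgroup Ω} (hn : F.IsFullyNormalized Q) {d : Ω → Ω}
    (hd : IsIso F S S d) : F.IsFullyNormalized (img d Q) := by
  refine ⟨(hd.1.img_le hn.1 fun x hx => hd.1.mem (hn.1 hx)), fun X hX => ?_⟩
  have hc : F.IsConj Q (img d Q) := isConj_iff.2 ⟨d, hd.mono hn.1⟩
  refine (hn.2 X (isConj_trans hc hX)).trans ?_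
  have hNle : normalizerIn S Q ≤ S := inf_le_left
  rw [← hd.1.card_img hNle]
  have := finite_of_le (S := S) (P := normalizerIn S (img d Q)) inf_le_left
  exact Subgroup.card_le_of_le (hd.1.img_le inf_le_left fun g hg =>
    map_normalizerIn hd.1 hn.1 rfl hg.1 hg)

/-! ### The two subsystems -/

variable {R R' : FusionSystem S₁}

theorem isMap_full (hR : ∀ P : Subgroup Ω, P ≤ S₁ → R.Hom P = F.Hom P) {P : Subgroup Ω}
    {f : Ω → Ω} : IsMap R P f ↔ P ≤ S₁ ∧ IsMap F P f := by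
  constructor
  · rintro ⟨φ, hφ, e⟩
    have hP := (R.le_of_mem hφ).1
    exact ⟨hP, φ, hR P hP ▸ hφ, e⟩
  · rintro ⟨hP, φ, hφ, e⟩
    exact ⟨φ, (hR P hP).symm ▸ hφ, e⟩

theorem isMap_fix (D : DP F S₁ S₂) (hR' : ∀ P : Subgroup Ω, P ≤ S₁ → R'.Hom P = F.centralizerHom S₂ P)
    {P : Subgroup Ω} {f : Ω → Ω} : IsMap R' P f ↔ P ≤ S₁ ∧ DP.Fixes F S₂ P f := by
  constructor
  · rintro ⟨φ, hφ, e⟩
    have hP := (R'.le_of_mem hφ).1
    rw [hR' P hP] at hφ
    obtain ⟨-, -, -, ψ, hψ, h1, h2⟩ := hφ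
    refine ⟨hP, toFn ψ, isMap_toFn hψ, fun x hx => ?_, fun y hy => ?_⟩
    · rw [toFn_apply ψ (le_sup_left (b := S₂) hx), ← e x hx]
      exact h1 ⟨x, hx⟩
    · rw [toFn_apply ψ (le_sup_right (a := P) hy)]
      exact h2 ⟨y, hy⟩
  · rintro ⟨hP, g, hg, h1, h2⟩
    obtain ⟨φ, hφ, e⟩ := (hg.mono le_sup_left).congr h1
    obtain ⟨ψ, hψ, e'⟩ := hg
    refine ⟨φ, ?_, e⟩
    rw [hR' P hP]
    refine ⟨hφ, D.le_centralizerIn' hP, fun x => D.le_centralizerIn' le_rfl ?_, ψ, hψ,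
      fun x => ?_, fun y => ?_⟩
    · have hm : IsMap F P (toFn φ) := isMap_toFn hφ
      rw [← toFn_coe φ x]
      exact D.map_mem hm x.2 (hP x.2)
    · exact ((e' x (le_sup_left (b := S₂) x.2)).trans (h1 x x.2)).trans (e x x.2).symm
    · exact (e' y (le_sup_right (a := P) y.2)).trans (h2 y y.2)

theorem fixes_isMap {P : Subgroup Ω} {f : Ω → Ω} (h : DP.Fixes F S₂ P f) : IsMap F P f :=
  let ⟨_, hg, h1, _⟩ := h
  (hg.mono le_sup_left).congr h1

variable [Finite S] [Fact p.Prime] (D : DP F S₁ S₂) (hS : IsPGroup p S) (hF : F.IsSaturated p)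
  (hR : ∀ P : Subgroup Ω, P ≤ S₁ → R.Hom P = F.Hom P)
  (hR' : ∀ P : Subgroup Ω, P ≤ S₁ → R'.Hom P = F.centralizerHom S₂ P)

include D hR in
theorem autGroup_full {Q : Subgroup Ω} (hQ : Q ≤ S₁) : R.autGroup Q = F.autGroup Q := by
  ext α
  rw [mem_autGroup_iff hQ, mem_autGroup_iff (hQ.trans D.le1), isMap_full hR]
  exact and_iff_right hQ

include D hS hF hR in
theorem isSaturated_full : R.IsSaturated p := by
  intro P hP
  obtain ⟨Q, hPQ, hQn⟩ := exists_fullyNormalized F (hP.trans D.le1)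
  obtain ⟨f, hf⟩ := isConj_iff.1 hPQ
  have hQ : Q ≤ S₁ := fun y hy => by
    obtain ⟨x, hx, rfl⟩ := hf.exists_eq hy
    exact D.map_mem hf.1 hx (hP hx)
  refine ⟨Q, isConj_iff.2 ⟨f, (isMap_full hR).2 ⟨hP, hf.1⟩, hf.2⟩,
    isFullyAutomized_iff.2 ⟨hQ, ?_⟩, isReceptive_iff.2 ⟨hQ, fun X u hu => ?_⟩⟩
  · rw [autGroup_full D hR hQ, ← D.autS_eq hQ]
    exact (isFullyAutomized_iff.1 (fullyAutomized_of_fullyNormalized hS hF hQn)).2
  · obtain ⟨u', hu', e⟩ := (isReceptive_iff.1 (receptive_of_fullyNormalized hS hF hQn)).2 X u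
      ⟨((isMap_full hR).1 hu.1).2, hu.2⟩
    have hle : Nx S₁ X u ≤ Nx S X u := by
      rintro g ⟨hg, h, hh, eh⟩
      exact ⟨⟨D.le1 hg.1, hg.2⟩, h, D.le1 hh, eh⟩
    exact ⟨u', (isMap_full hR).2 ⟨fun g hg => hg.1.1, hu'.mono hle⟩, e⟩

include D hS hF hR' in
theorem isSaturated_fix : R'.IsSaturated p := by
  intro P hP
  obtain ⟨Q₀, hPQ, hQn₀⟩ := exists_fullyNormalized F (hP.trans D.le1)
  obtain ⟨f, hf⟩ := isConj_iff.1 hPQ
  obtain ⟨d, hd, hfix⟩ := D.exists_split hS hF hP hf.1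
  set Q := img d Q₀ with hQdef
  have hfQ : IsIso F P Q fun x => d (f x) := hf.trans (hd.mono hQn₀.1)
  have hQn : F.IsFullyNormalized Q := fullyNormalized_auto hQn₀ hd
  have hQ : Q ≤ S₁ := fun y hy => by
    obtain ⟨x, hx, rfl⟩ := hfQ.exists_eq hy
    exact D.map_mem hfQ.1 hx (hP hx)
  refine ⟨Q, isConj_iff.2 ⟨_, (isMap_fix D hR').2 ⟨hP, hfix⟩, hfQ.2⟩,
    isFullyAutomized_iff.2 ⟨hQ, ?_⟩, isReceptive_iff.2 ⟨hQ, fun X u hu => ?_⟩⟩
  · have hA := (isFullyAutomized_iff.1 (fullyAutomized_of_fullyNormalized hS hF hQn)).2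
    rw [D.autS_eq hQ] at hA
    refine hA.mono (autInducedBy_le_autGroup R' le_rfl hQ) fun α hα => ?_
    rw [mem_autGroup_iff (hQ.trans D.le1)]
    exact fixes_isMap ((isMap_fix D hR').1 ((mem_autGroup_iff hQ).1 hα)).2
  · obtain ⟨hX, g, hg, hgu, hgy⟩ := (isMap_fix D hR').1 hu.1
    have hgimg : img g (X ⊔ S₂) = Q ⊔ S₂ := by
      refine le_antisymm (hg.img_le le_rfl fun x hx => hg.forall_mem_sup le_sup_left le_sup_right
        (fun y hy => ?_) (fun y hy => ?_) hx) (sup_le ?_ ?_)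
      · rw [hgu y hy]
        exact le_sup_left (b := S₂) (hu.mem hy)
      · rw [hgy y hy]
        exact le_sup_right (a := Q) hy
      · intro y hy
        obtain ⟨x, hx, rfl⟩ := hu.exists_eq hy
        rw [← hgu x hx]
        exact hg.mem_img (le_sup_left (b := S₂) hx)
      · intro y hy
        rw [← hgy y hy]
        exact hg.mem_img (le_sup_right (a := X) hy)
    obtain ⟨g', hg', e⟩ := (isReceptive_iff.1
      (receptive_of_fullyNormalized hS hF (D.fullyNormalized_sup hQ hQn))).2 _ g ⟨hg, hgimg⟩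
    have hN1 : Nx S₁ X u ≤ S₁ := fun n hn => hn.1.1
    have hle : Nx S₁ X u ⊔ S₂ ≤ Nx S (X ⊔ S₂) g := by
      refine sup_le (fun n hn => ?_) (le_sup_right.trans (le_Nx hg))
      obtain ⟨hnN, h, hh, eh⟩ := hn
      have := finite_of_le hg.le
      have hconj : ∀ x ∈ X ⊔ S₂, n * x * n⁻¹ ∈ X ⊔ S₂ := fun x hx =>
        (IsMap.conj (F := F) hg.le (D.le1 hnN.1)).forall_mem_sup le_sup_left le_sup_right
          (fun y hy => le_sup_left (b := S₂) (normalizerIn_conj hnN hy))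
          (fun y hy => le_sup_right (a := X)
            (conj_mem_of_stronglyClosed D.c2 (D.le1 hnN.1) hy)) hx
      have fixn : ∀ a ∈ S₁, ∀ y ∈ S₂, a * y * a⁻¹ = y := fun a ha y hy => D.symm.conj2 hy ha
      refine ⟨mem_normalizerIn_of_conj (D.le1 hnN.1) hconj, h, D.le1 hh, fun x hx => ?_⟩
      refine ((IsMap.conj hg.le (D.le1 hnN.1)).comp hg hconj).eqOn_sup
        (hg.comp (IsMap.conj le_rfl (D.le1 hh)) fun y hy => hg.mem hy) le_sup_left le_sup_right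
        (fun y hy => ?_) (fun y hy => ?_) hx
      · show g (n * y * n⁻¹) = h * g y * h⁻¹
        rw [hgu _ (normalizerIn_conj hnN hy), hgu y hy, eh y hy]
      · show g (n * y * n⁻¹) = h * g y * h⁻¹
        rw [fixn n hnN.1 y hy, hgy y hy, fixn h hh y hy]
    refine ⟨g', (isMap_fix D hR').2 ⟨hN1, g', hg'.mono hle, fun _ _ => rfl, fun y hy => ?_⟩,
      fun x hx => ?_⟩
    · rw [e y (le_sup_right (a := X) hy), hgy y hy]
    · rw [e x (le_sup_left (b := S₂) hx), hgu x hx]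

include D hS hF hR' in
theorem fix_invariance {P : Subgroup Ω} (hP : P ≤ S₁) {φ : P →* Ω} (hφ : φ ∈ R'.Hom P)
    {α : MulAut S₁} (hα : α ∈ F.autGroup S₁) :
    ∃ χ ∈ R'.Hom ((P.subgroupOf S₁).map (S₁.subtype.comp α.toMonoidHom)),
      ∀ (x : P) (hφx : φ x ∈ S₁)
        (hαx : ((α ⟨x, hP x.2⟩ : S₁) : Ω) ∈
          (P.subgroupOf S₁).map (S₁.subtype.comp α.toMonoidHom)),
        χ ⟨(α ⟨x, hP x.2⟩ : S₁), hαx⟩ = ((α ⟨φ x, hφx⟩ : S₁) : Ω) := by
  obtain ⟨-, g, hg, hg1, hg2⟩ := (isMap_fix D hR').1 (isMap_toFn hφ)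
  obtain ⟨d, hd, hde⟩ := D.extend_factor hS hF (isIso_autFn D.le1 hα)
  obtain ⟨di, hdi, hdl, hdr⟩ := hd.symm
  set Pα := (P.subgroupOf S₁).map (S₁.subtype.comp α.toMonoidHom) with hPα
  have hPαle : Pα ≤ S₁ := by
    rintro _ ⟨z, -, rfl⟩
    exact (α z).2
  have hdiP : ∀ y ∈ Pα, di y ∈ P := by
    rintro _ ⟨z, hz, rfl⟩
    have : ((α z : S₁) : Ω) = d z := by
      rw [hde _ z.2, autFn_apply α z.2]
    show di ((α z : S₁) : Ω) ∈ P
    rw [this, hdl _ (D.le1 z.2)]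
    exact hz
  have hdiS₂ : ∀ y ∈ S₂, di y ∈ S₂ := fun y hy => D.symm.map_mem hdi.1 (D.le2 hy) hy
  have hdom : Pα ⊔ S₂ ≤ S := sup_le (hPαle.trans D.le1) D.le2
  have hm : IsMap F (Pα ⊔ S₂) (fun y => d (g (di y))) :=
    ((hdi.1.mono hdom).comp hg fun y hy => hdi.1.forall_mem_sup
      (hPαle.trans D.le1) D.le2 (fun z hz => le_sup_left (b := S₂) (hdiP z hz))
      (fun z hz => le_sup_right (a := P) (hdiS₂ z hz)) hy).comp hd.1
      fun y hy => hg.mem (hdi.1.forall_mem_sup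
        (hPαle.trans D.le1) D.le2 (fun z hz => le_sup_left (b := S₂) (hdiP z hz))
        (fun z hz => le_sup_right (a := P) (hdiS₂ z hz)) hy)
  have hmR : IsMap R' Pα (fun y => d (g (di y))) := (isMap_fix D hR').2
    ⟨hPαle, _, hm, fun _ _ => rfl, fun y hy => by
      show d (g (di y)) = y
      rw [hg2 _ (hdiS₂ y hy), hdr y (D.le2 hy)]⟩
  obtain ⟨χ, hχ, hχe⟩ := hmR
  refine ⟨χ, hχ, fun x hφx hαx => ?_⟩
  rw [hχe]
  show d (g (di _)) = _
  have h1 : ((α ⟨x, hP x.2⟩ : S₁) : Ω) = d x := by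
    rw [hde _ (hP x.2), autFn_apply α (hP x.2)]
  rw [h1, hdl _ (D.le1 (hP x.2)), hg1 _ x.2, toFn_coe, hde _ hφx, autFn_apply α hφx]

include D hS hF hR' in
theorem fix_frattini {P : Subgroup Ω} (hP : P ≤ S₁) {φ : P →* Ω} (hφ : φ ∈ F.Hom P) :
    ∃ α ∈ F.autGroup S₁, ∃ φ₀ ∈ R'.Hom P,
      ∀ (x : P) (hx : φ₀ x ∈ S₁), φ x = ((α ⟨φ₀ x, hx⟩ : S₁) : Ω) := by
  have hf := isMap_toFn hφ
  obtain ⟨d, hd, hfix⟩ := D.exists_split hS hF hP hf
  obtain ⟨di, hdi, hdl, -⟩ := hd.symm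
  obtain ⟨α, hα, hαe⟩ := exists_aut_of_isIso (F := F) (f := di)
    (P := S₁) ⟨hdi.1.mono D.le1, D.img_factor hdi.1 D.le1⟩
  obtain ⟨φ₀, hφ₀, e⟩ := (isMap_fix D hR').2 ⟨hP, hfix⟩
  refine ⟨α, hα, φ₀, hφ₀, fun x hx => ?_⟩
  rw [hαe]
  show φ x = di (φ₀ x)
  rw [show φ₀ x = d (toFn φ x) from e x x.2, hdl _ (hf.mem x.2), toFn_coe]

include D hS hF hR' in
theorem isNormalIn_fix : R'.IsNormalIn F p := by
  refine ⟨⟨isSaturated_fix D hS hF hR', hF, ?_, D.c1,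
    fun P hP φ hφ α hα => fix_invariance D hS hF hR' hP hφ hα,
    fun P hP φ hφ => fix_frattini D hS hF hR' hP hφ⟩, fun α hα => ?_⟩
  · intro P φ hφ
    have hP := (R'.le_of_mem hφ).1
    rw [hR' P hP] at hφ
    exact hφ.1
  · obtain ⟨-, g, hg, hg1, hg2⟩ := (isMap_fix D hR').1 ((mem_autGroup_iff le_rfl).1 hα)
    have hTS : S₁ ⊔ S₂ = S := D.prod.2.2.2.2
    rw [hTS] at hg
    have hT : S₁ ⊔ centralizerIn S S₁ ≤ S := sup_le D.le1 inf_le_left
    have hgT : IsIso F (S₁ ⊔ centralizerIn S S₁) (S₁ ⊔ centralizerIn S S₁) g := by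
      refine ⟨hg.mono hT, eq_of_le_of_card hT ((hg.mono hT).img_le le_rfl fun x hx =>
        (D.le_centralizerIn le_rfl |>.trans le_sup_right |> sup_le le_sup_left)
          (hTS.symm ▸ hg.mem (hT hx))) ((hg.mono hT).card_img le_rfl).ge⟩
    obtain ⟨β, hβ, hβe⟩ := exists_aut_of_isIso hgT
    refine ⟨β, hβ, fun x => ?_, fun c hc => ?_⟩
    · rw [hβe]
      show g (x : Ω) = _
      rw [hg1 _ x.2, autFn_apply α x.2]
    · rw [hβe]
      obtain ⟨a, ha, b, hb, hab⟩ := D.exists_mul hc.1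
      have hgc : g c ∈ centralizerIn S S₁ :=
        map_centralizerIn hg D.le1 (D.img_factor hg D.le1) hc.1 hc
      refine ⟨?_, (mul_mem (inv_mem hc) hgc).2⟩
      show (c : Ω)⁻¹ * g c ∈ S₁
      rw [hab, hg.map_mul (D.le1 ha) (D.le2 hb), hg2 b hb]
      have hga : g a ∈ S₁ := D.map_mem hg (D.le1 ha) ha
      have e : (a * b)⁻¹ * (g a * b) = b⁻¹ * (a⁻¹ * g a) * b := by group
      have e' : b⁻¹ * (a⁻¹ * g a) * b = a⁻¹ * g a := by
        have := D.conj2 (mul_mem (inv_mem ha) hga) (inv_mem hb)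
        rwa [inv_inv] at this
      rw [e, e']
      exact mul_mem (inv_mem ha) hga

include D hS hF hR in
theorem isWeaklyNormalIn_full : R.IsWeaklyNormalIn F p := by
  refine ⟨isSaturated_full D hS hF hR, hF, ?_, D.c1, fun P hP φ hφ α hα => ?_,
    fun P hP φ hφ => ?_⟩
  · intro P φ hφ
    exact hR P (R.le_of_mem hφ).1 ▸ hφ
  · have hf := ((isMap_full hR).1 (isMap_toFn hφ)).2
    have ha := isIso_autFn D.le1 hα
    obtain ⟨ai, hai, hal, -⟩ := ha.symm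
    set Pα := (P.subgroupOf S₁).map (S₁.subtype.comp α.toMonoidHom) with hPα
    have hPαle : Pα ≤ S₁ := by
      rintro _ ⟨z, -, rfl⟩
      exact (α z).2
    have haiP : ∀ y ∈ Pα, ai y ∈ P := by
      rintro _ ⟨z, hz, rfl⟩
      show ai ((α z : S₁) : Ω) ∈ P
      rw [← autFn_apply α z.2, hal _ z.2]
      exact hz
    have hm : IsMap F Pα (fun y => autFn α (toFn φ (ai y))) :=
      ((hai.1.mono hPαle).comp hf haiP).comp ha.1
        fun y hy => D.map_mem hf (haiP y hy) (hP (haiP y hy))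
    obtain ⟨χ, hχ, e⟩ := (isMap_full hR).2 ⟨hPαle, hm⟩
    refine ⟨χ, hχ, fun x hφx hαx => ?_⟩
    rw [e]
    show autFn α (toFn φ (ai _)) = _
    rw [← autFn_apply α (hP x.2), hal _ (hP x.2), toFn_coe, autFn_apply α hφx]
  · exact ⟨1, one_mem _, φ, (hR P hP).symm ▸ hφ, fun x hx => rfl⟩

include D hS hF hR hR' in
theorem isNormalIn_fix_full : R'.IsNormalIn R p := by
  refine ⟨⟨isSaturated_fix D hS hF hR', isSaturated_full D hS hF hR, ?_,
    ⟨le_rfl, fun Q _ φ hφ x => (R.le_of_mem hφ).2 x⟩,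
    fun P hP φ hφ α hα => fix_invariance D hS hF hR' hP hφ (autGroup_full D hR le_rfl ▸ hα),
    fun P hP φ hφ => ?_⟩, fun α hα => ?_⟩
  · intro P φ hφ
    have hP := (R'.le_of_mem hφ).1
    rw [hR' P hP] at hφ
    rw [hR P hP]
    exact hφ.1
  · rw [hR P hP] at hφ
    rw [autGroup_full D hR le_rfl]
    exact fix_frattini D hS hF hR' hP hφ
  · have hT : S₁ ⊔ centralizerIn S₁ S₁ = S₁ := sup_eq_left.2 inf_le_left
    have hF' := fixes_isMap ((isMap_fix D hR').1 ((mem_autGroup_iff le_rfl).1 hα)).2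
    have hm : IsIso R S₁ S₁ (autFn α) :=
      autFn_isIso ((isMap_full hR).2 ⟨le_rfl, hF'⟩)
    have hmT : IsIso R (S₁ ⊔ centralizerIn S₁ S₁) (S₁ ⊔ centralizerIn S₁ S₁) (autFn α) := by
      rw [hT]
      exact hm
    obtain ⟨β, hβ, hβe⟩ := exists_aut_of_isIso hmT
    refine ⟨β, hβ, fun x => ?_, fun c hc => ?_⟩
    · rw [hβe]
      show autFn α (x : Ω) = _
      rw [autFn_apply α x.2]
    · rw [hβe]
      have hgc : autFn α (c : Ω) ∈ centralizerIn S₁ S₁ :=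
        map_centralizerIn hm.1 le_rfl hm.2 hc.1 hc
      exact mul_mem (inv_mem hc) hgc

end Cfsg.Agent.FusionDirect
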